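import Groth.Agent.Lib.Helper6.K0Node.Ring

set_option linter.unusedSectionVars false
set_option linter.unusedVariables false
set_option linter.unusedSimpArgs false
set_option autoImplicit false
set_option linter.style.haveILetI false
set_option maxHeartbeats 400000

noncomputable section

namespace Groth.Agent.Lib.Helper6.K0Node

open Polynomial

universe u

variable {k : Type u} [Field k]

theorem prime_contains_xb (p : Ideal (NA k)) [p.IsPrime] : ∃ i : Fin 2, (xb i : NA k) ∈ p := by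
  have h : (xb 0 * xb 1 : NA k) ∈ p := by
    rw [xb_mul_xb 0 1 (by decide)]
    exact zero_mem _
  rcases Ideal.IsPrime.mem_or_mem ‹p.IsPrime› h with h | h
  · exact ⟨0, h⟩
  · exact ⟨1, h⟩

/-- A prime containing `x_i` is either `(x_i)` or `(x_i, f̃)` with `φ f̃ ≠ 0`. -/
theorem prime_structure (i : Fin 2) (p : Ideal (NA k)) [p.IsPrime] (hi : (xb i : NA k) ∈ p) :
    p = Ideal.span {(xb i : NA k)} ∨
      ∃ f : NA k, φ i f ≠ 0 ∧ p = Ideal.span {f} ⊔ Ideal.span {(xb i : NA k)} := by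
  have hker : RingHom.ker (φ i : NA k →+* k[X]) ≤ p := by
    rw [ker_φ, Ideal.span_le]
    intro a ha
    rw [Set.mem_singleton_iff] at ha
    subst ha
    exact hi
  have hp : Ideal.comap (φ i) (Ideal.map (φ i) p) = p := by
    rw [Ideal.comap_map_of_surjective _ (φ_surjective i)]
    exact sup_eq_left.2 hker
  obtain ⟨f, hf⟩ := (IsPrincipalIdealRing.principal (Ideal.map (φ i) p)).principal
  obtain ⟨ft, rfl⟩ := φ_surjective i f
  by_cases h0 : φ i ft = 0
  · left
    rw [h0] at hf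
    have : Ideal.map (φ i) p = ⊥ := by
      rw [hf]; simp
    rw [this] at hp
    rw [← hp, ← ker_φ]
    rfl
  · right
    refine ⟨ft, h0, ?_⟩
    have hmap : Ideal.map (φ i) (Ideal.span {ft}) = Ideal.map (φ i) p := by
      rw [Ideal.map_span, Set.image_singleton, hf]
    rw [← hp, ← hmap, Ideal.comap_map_of_surjective _ (φ_surjective i), ← ker_φ]
    rfl

/-- multiplication by `f` on `A/(x_i)` -/
def mulQ (i : Fin 2) (f : NA k) :
    (NA k ⧸ Ideal.span {(xb i : NA k)}) →ₗ[NA k] (NA k ⧸ Ideal.span {(xb i : NA k)}) :=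
  LinearMap.lsmul (NA k) _ f

theorem mulQ_apply (i : Fin 2) (f : NA k) (z : NA k ⧸ Ideal.span {(xb i : NA k)}) :
    mulQ i f z = f • z := rfl

theorem mulQ_injective (i : Fin 2) (f : NA k) (hf : φ i f ≠ 0) :
    Function.Injective (mulQ i f) := by
  rw [← LinearMap.ker_eq_bot, LinearMap.ker_eq_bot']
  intro z hz
  obtain ⟨a, rfl⟩ := Ideal.Quotient.mk_surjective z
  rw [mulQ_apply] at hz
  have h1 : f • (Ideal.Quotient.mk (Ideal.span {(xb i : NA k)}) a) =
      Ideal.Quotient.mk (Ideal.span {(xb i : NA k)}) (f * a) := rfl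
  rw [h1, Ideal.Quotient.eq_zero_iff_mem, ← ker_φ, RingHom.mem_ker, map_mul] at hz
  rw [Ideal.Quotient.eq_zero_iff_mem, ← ker_φ, RingHom.mem_ker]
  exact (mul_eq_zero.1 hz).resolve_left hf

/-- the projection `A/(x_i) → A/p` -/
def projQ (i : Fin 2) (p : Ideal (NA k)) (hi : Ideal.span {(xb i : NA k)} ≤ p) :
    (NA k ⧸ Ideal.span {(xb i : NA k)}) →ₗ[NA k] (NA k ⧸ p) :=
  Submodule.mapQ _ _ LinearMap.id (by simpa using hi)

theorem projQ_mk (i : Fin 2) (p : Ideal (NA k)) (hi : Ideal.span {(xb i : NA k)} ≤ p) (a : NA k) :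
    projQ i p hi (Ideal.Quotient.mk _ a) = Ideal.Quotient.mk p a := rfl

theorem projQ_surjective (i : Fin 2) (p : Ideal (NA k)) (hi : Ideal.span {(xb i : NA k)} ≤ p) :
    Function.Surjective (projQ i p hi) := by
  intro z
  obtain ⟨a, rfl⟩ := Ideal.Quotient.mk_surjective z
  exact ⟨Ideal.Quotient.mk _ a, rfl⟩

theorem exact_mulQ_projQ (i : Fin 2) (f : NA k)
    (hi : Ideal.span {(xb i : NA k)} ≤ Ideal.span {f} ⊔ Ideal.span {(xb i : NA k)}) :
    Function.Exact (mulQ i f) (projQ i (Ideal.span {f} ⊔ Ideal.span {(xb i : NA k)}) hi) := by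
  intro z
  obtain ⟨a, rfl⟩ := Ideal.Quotient.mk_surjective z
  rw [projQ_mk, Ideal.Quotient.eq_zero_iff_mem]
  constructor
  · intro ha
    rw [Submodule.mem_sup] at ha
    obtain ⟨b, hb, c, hc, rfl⟩ := ha
    rw [Ideal.mem_span_singleton'] at hb
    obtain ⟨b', rfl⟩ := hb
    refine ⟨Ideal.Quotient.mk _ b', ?_⟩
    rw [mulQ_apply]
    have h1 : f • (Ideal.Quotient.mk (Ideal.span {(xb i : NA k)}) b') =
        Ideal.Quotient.mk (Ideal.span {(xb i : NA k)}) (f * b') := rfl
    rw [h1, map_add, (Ideal.Quotient.eq_zero_iff_mem).2 hc, add_zero, mul_comm]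
  · rintro ⟨w, hw⟩
    obtain ⟨b, rfl⟩ := Ideal.Quotient.mk_surjective w
    rw [mulQ_apply] at hw
    have h1 : f • (Ideal.Quotient.mk (Ideal.span {(xb i : NA k)}) b) =
        Ideal.Quotient.mk (Ideal.span {(xb i : NA k)}) (f * b) := rfl
    rw [h1, Ideal.Quotient.eq] at hw
    have : a = f * b - (f * b - a) := by ring
    rw [this]
    refine sub_mem ?_ ?_
    · exact Ideal.mem_sup_left (Ideal.mul_mem_right _ _ (Ideal.subset_span rfl))
    · exact Ideal.mem_sup_right hw

end Groth.Agent.Lib.Helper6.K0Node
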