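import Groth.Agent.Lib.Helper6.K0Node.Ring

set_option linter.unusedSectionVars false
set_option linter.unusedVariables false
set_option linter.unusedSimpArgs false
set_option autoImplicit false
set_option linter.style.haveILetI false
set_option maxHeartbeats 400000

noncomputable section

namespace Groth.Agent.Lib.Helper6.K0Node

open Polynomial TensorProduct

universe u

variable (k : Type u) [Field k]

/-- The function field of the branch `x_i = 0`, as a type synonym indexed by `i`. -/
def KK (i : Fin 2) : Type u := FractionRing k[X]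

instance (i : Fin 2) : Field (KK k i) := inferInstanceAs (Field (FractionRing k[X]))

/-- the structure map `A → K_i` -/
def toKK (i : Fin 2) : NA k →+* KK k i :=
  (algebraMap k[X] (FractionRing k[X])).comp (φ i)

instance (i : Fin 2) : Algebra (NA k) (KK k i) := (toKK k i).toAlgebra

variable {k}

theorem algebraMap_KK (i : Fin 2) (a : NA k) :
    algebraMap (NA k) (KK k i) a = algebraMap k[X] (FractionRing k[X]) (φ i a) := rfl

theorem algebraMap_KK_eq_zero_iff (i : Fin 2) (a : NA k) :
    algebraMap (NA k) (KK k i) a = 0 ↔ φ i a = 0 := by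
  rw [algebraMap_KK]
  exact map_eq_zero_iff _ (IsFractionRing.injective k[X] (FractionRing k[X]))

instance ker_φ_isPrime (i : Fin 2) : (RingHom.ker (φ i : NA k →+* k[X])).IsPrime :=
  RingHom.ker_isPrime _

theorem isLocalization_KK (i j : Fin 2) (hij : i ≠ j) :
    IsLocalization (RingHom.ker (φ i : NA k →+* k[X])).primeCompl (KK k i) := by
  rw [isLocalization_iff]
  refine ⟨?_, ?_, ?_⟩
  · rintro ⟨y, hy⟩
    have : algebraMap (NA k) (KK k i) y ≠ 0 := by
      rw [Ne, algebraMap_KK_eq_zero_iff]
      exact hy
    exact isUnit_iff_ne_zero.2 this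
  · intro z
    obtain ⟨⟨n, d⟩, hnd⟩ := IsLocalization.surj (nonZeroDivisors k[X]) (S := FractionRing k[X]) z
    obtain ⟨a, ha⟩ := φ_surjective i n
    obtain ⟨s, hs⟩ := φ_surjective i (d : k[X])
    have hsk : s ∈ (RingHom.ker (φ i : NA k →+* k[X])).primeCompl := by
      intro hmem
      have hmem' : s ∈ RingHom.ker (φ i : NA k →+* k[X]) := hmem
      rw [RingHom.mem_ker, hs] at hmem'
      exact nonZeroDivisors.coe_ne_zero d hmem'
    refine ⟨(a, ⟨s, hsk⟩), ?_⟩
    simp only [algebraMap_KK, ha, hs]
    exact hnd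
  · intro x y hxy
    rw [algebraMap_KK, algebraMap_KK] at hxy
    have h1 : φ i x = φ i y := IsFractionRing.injective k[X] (FractionRing k[X]) hxy
    have h2 : x - y ∈ Ideal.span {(xb i : NA k)} := by
      rw [← ker_φ, RingHom.mem_ker, map_sub, h1, sub_self]
    rw [Ideal.mem_span_singleton'] at h2
    obtain ⟨c, hc⟩ := h2
    have hxj : (xb j : NA k) ∈ (RingHom.ker (φ i : NA k →+* k[X])).primeCompl := by
      intro hmem
      have hmem' : (xb j : NA k) ∈ RingHom.ker (φ i : NA k →+* k[X]) := hmem
      rw [RingHom.mem_ker, φ_xb_ne i j hij] at hmem'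
      exact Polynomial.X_ne_zero hmem'
    refine ⟨⟨xb j, hxj⟩, ?_⟩
    have : (xb j : NA k) * (x - y) = 0 := by
      rw [← hc, mul_comm c, ← mul_assoc, mul_comm (xb j), xb_mul_xb i j hij, zero_mul]
    have h3 := sub_eq_zero.1 (by rw [← mul_sub]; exact this : (xb j : NA k) * x - xb j * y = 0)
    exact h3

instance flat_KK (i : Fin 2) : Module.Flat (NA k) (KK k i) := by
  obtain ⟨j, hij⟩ : ∃ j : Fin 2, i ≠ j := by
    fin_cases i
    · exact ⟨1, by decide⟩
    · exact ⟨0, by decide⟩
  haveI := isLocalization_KK (k := k) i j hij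
  exact IsLocalization.flat (KK k i) (RingHom.ker (φ i : NA k →+* k[X])).primeCompl

/-- The rank of a module at the generic point of the branch `x_i = 0`. -/
def rk (k : Type u) [Field k] (i : Fin 2) (M : Type u) [AddCommGroup M] [Module (NA k) M] : ℕ :=
  Module.finrank (KK k i) (KK k i ⊗[NA k] M)

theorem rk_exact (i : Fin 2) {N₁ N₂ N₃ : Type u} [AddCommGroup N₁] [Module (NA k) N₁]
    [AddCommGroup N₂] [Module (NA k) N₂] [AddCommGroup N₃] [Module (NA k) N₃]
    [Module.Finite (NA k) N₁] [Module.Finite (NA k) N₂] [Module.Finite (NA k) N₃]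
    (f : N₁ →ₗ[NA k] N₂) (g : N₂ →ₗ[NA k] N₃) (hf : Function.Injective f)
    (hg : Function.Surjective g) (hex : Function.Exact f g) :
    rk k i N₂ = rk k i N₁ + rk k i N₃ := by
  unfold rk
  have hf' : Function.Injective (f.baseChange (KK k i)) := by
    have := Module.Flat.lTensor_preserves_injective_linearMap (M := KK k i) f hf
    intro x y hxy
    apply this
    simpa [LinearMap.baseChange_eq_ltensor] using hxy
  have hg' : Function.Surjective (g.baseChange (KK k i)) := by
    have := LinearMap.lTensor_surjective (KK k i) hg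
    intro y
    obtain ⟨x, hx⟩ := this y
    exact ⟨x, by simpa [LinearMap.baseChange_eq_ltensor] using hx⟩
  have hex' : Function.Exact (f.baseChange (KK k i)) (g.baseChange (KK k i)) := by
    have := lTensor_exact (KK k i) hex hg
    intro y
    have h := this y
    simpa [LinearMap.baseChange_eq_ltensor] using h
  have h1 := LinearMap.finrank_range_add_finrank_ker (g.baseChange (KK k i))
  have h2 : LinearMap.range (g.baseChange (KK k i)) = ⊤ := LinearMap.range_eq_top.2 hg'
  have h3 : LinearMap.ker (g.baseChange (KK k i)) = LinearMap.range (f.baseChange (KK k i)) :=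
    (LinearMap.exact_iff.1 hex')
  rw [h2, finrank_top, h3, LinearMap.finrank_range_of_inj hf'] at h1
  omega

theorem rk_quot_ne (i j : Fin 2) (hij : i ≠ j) :
    rk k i (NA k ⧸ Ideal.span {(xb j : NA k)}) = 0 := by
  unfold rk
  haveI : Subsingleton (KK k i ⊗[NA k] (NA k ⧸ Ideal.span {(xb j : NA k)})) := by
    refine ⟨fun a b => ?_⟩
    have hz : ∀ t : KK k i ⊗[NA k] (NA k ⧸ Ideal.span {(xb j : NA k)}), t = 0 := by
      intro t
      induction t using TensorProduct.induction_on with
      | zero => rfl
      | tmul z w =>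
        have hT : algebraMap (NA k) (KK k i) (xb j) ≠ 0 := by
          rw [Ne, algebraMap_KK_eq_zero_iff, φ_xb_ne i j hij]
          exact Polynomial.X_ne_zero
        have hz : z = (xb j : NA k) • (z / algebraMap (NA k) (KK k i) (xb j)) := by
          rw [Algebra.smul_def, mul_div_cancel₀ _ hT]
        obtain ⟨a, rfl⟩ := Ideal.Quotient.mk_surjective w
        have h0 : (xb j : NA k) • (Ideal.Quotient.mk (Ideal.span {(xb j : NA k)}) a) = 0 := by
          have h1 : (xb j : NA k) • (Ideal.Quotient.mk (Ideal.span {(xb j : NA k)}) a) =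
            Ideal.Quotient.mk (Ideal.span {(xb j : NA k)}) (xb j * a) := rfl
          rw [h1, Ideal.Quotient.eq_zero_iff_mem]
          exact Ideal.mul_mem_right _ _ (Ideal.subset_span rfl)
        have h2 := TensorProduct.smul_tmul (R := NA k) (R' := NA k) (xb j : NA k)
          (z / algebraMap (NA k) (KK k i) (xb j)) (Ideal.Quotient.mk (Ideal.span {(xb j : NA k)}) a)
        rw [h0, TensorProduct.tmul_zero] at h2
        rw [hz]
        exact h2
      | add x y hx hy => rw [hx, hy, add_zero]
    rw [hz a, hz b]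
  exact Module.finrank_zero_of_subsingleton

theorem rk_quot_self (i : Fin 2) :
    rk k i (NA k ⧸ Ideal.span {(xb i : NA k)}) = 1 := by
  unfold rk
  set K := KK k i
  set Q := NA k ⧸ Ideal.span {(xb i : NA k)}
  let g : Q →ₗ[NA k] K := Submodule.liftQ _ (Algebra.linearMap (NA k) K) (by
    rw [Ideal.span_le]
    intro a ha
    rw [Set.mem_singleton_iff] at ha
    subst ha
    simp only [SetLike.mem_coe, LinearMap.mem_ker, Algebra.linearMap_apply]
    rw [algebraMap_KK_eq_zero_iff, φ_xb_self])
  have hg : ∀ a : NA k, g (Ideal.Quotient.mk _ a) = algebraMap (NA k) K a := fun a => rfl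
  let F : K ⊗[NA k] Q →ₗ[K] K := LinearMap.liftBaseChange K g
  let G : K →ₗ[K] K ⊗[NA k] Q := LinearMap.toSpanSingleton K _ ((1 : K) ⊗ₜ (1 : Q))
  have hFG : F ∘ₗ G = LinearMap.id := by
    apply LinearMap.ext_ring
    simp only [LinearMap.coe_comp, Function.comp_apply, LinearMap.toSpanSingleton_apply, one_smul,
      LinearMap.id_coe, id_eq, G, F, LinearMap.liftBaseChange_tmul]
    have : (1 : Q) = Ideal.Quotient.mk _ (1 : NA k) := rfl
    rw [this, hg, map_one]
  have hGF : G ∘ₗ F = LinearMap.id := by
    apply TensorProduct.AlgebraTensorModule.curry_injective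
    apply LinearMap.ext
    intro z
    apply LinearMap.ext
    intro w
    obtain ⟨a, rfl⟩ := Ideal.Quotient.mk_surjective w
    simp only [TensorProduct.AlgebraTensorModule.curry_apply, LinearMap.restrictScalars_comp,
      TensorProduct.curry_apply, LinearMap.coe_comp, LinearMap.coe_restrictScalars,
      Function.comp_apply, LinearMap.id_coe, id_eq, F, G, LinearMap.liftBaseChange_tmul,
      LinearMap.toSpanSingleton_apply, hg]
    rw [smul_eq_mul, mul_comm, ← Algebra.smul_def, TensorProduct.smul_tmul', smul_eq_mul, mul_one,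
      TensorProduct.smul_tmul (R := NA k) a z (1 : Q)]
    congr 1
    have : a • (1 : Q) = Ideal.Quotient.mk _ (a * 1) := rfl
    rw [this, mul_one]
  let e : (K ⊗[NA k] Q) ≃ₗ[K] K := LinearEquiv.ofLinearMap F G hFG hGF
  rw [e.finrank_eq, Module.finrank_self]

end Groth.Agent.Lib.Helper6.K0Node
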