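import Groth.Prelude.Def_KZero
import Groth.Agent.Lib.Helper6.K0Node.Primes
import Groth.Agent.Lib.Helper6.K0Node.Rank

set_option linter.unusedSectionVars false
set_option linter.unusedVariables false
set_option linter.unusedSimpArgs false
set_option autoImplicit false
set_option linter.style.haveILetI false
set_option maxHeartbeats 400000

noncomputable section

namespace Groth.Agent.Lib.Helper6.K0Node

open CategoryTheory KZero

universe u

variable (R : Type u) [CommRing R]

/-- The property "finitely generated". -/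
abbrev Pfin : ObjectProperty (ModuleCat.{u} R) := fun M => Module.Finite R M

variable {R}

theorem clSub_of (M : ModuleCat.{u} R) (h : Module.Finite R M) :
    clSub (Pfin R) M = QuotientAddGroup.mk (FreeAbelianGroup.of ⟨M, h⟩) := by
  unfold clSub
  rw [dif_pos h]

theorem clSub_shortExact (S : ShortComplex (ModuleCat.{u} R)) (hS : S.ShortExact)
    (h₁ : Module.Finite R S.X₁) (h₂ : Module.Finite R S.X₂) (h₃ : Module.Finite R S.X₃) :
    clSub (Pfin R) S.X₂ = clSub (Pfin R) S.X₁ + clSub (Pfin R) S.X₃ := by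
  rw [clSub_of _ h₁, clSub_of _ h₂, clSub_of _ h₃]
  rw [← sub_eq_zero, ← sub_sub, ← QuotientAddGroup.mk_sub, ← QuotientAddGroup.mk_sub,
    QuotientAddGroup.eq_zero_iff]
  exact AddSubgroup.subset_closure ⟨S, h₁, h₂, h₃, hS, rfl⟩

theorem clSub_exact {N₁ N₂ N₃ : Type u} [AddCommGroup N₁] [Module R N₁]
    [AddCommGroup N₂] [Module R N₂] [AddCommGroup N₃] [Module R N₃]
    [Module.Finite R N₁] [Module.Finite R N₂] [Module.Finite R N₃]
    (f : N₁ →ₗ[R] N₂) (g : N₂ →ₗ[R] N₃) (hf : Function.Injective f)
    (hg : Function.Surjective g) (hex : Function.Exact f g) :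
    clSub (Pfin R) (ModuleCat.of R N₂) =
      clSub (Pfin R) (ModuleCat.of R N₁) + clSub (Pfin R) (ModuleCat.of R N₃) := by
  have eq0 : g.comp f = 0 := LinearMap.ext fun x => hex.apply_apply_eq_zero x
  let S := ModuleCat.shortComplexOfCompEqZero f g eq0
  have hS : S.ShortExact := ModuleCat.shortComplex_shortExact S hex hf hg
  exact clSub_shortExact S hS ‹_› ‹_› ‹_›

theorem clSub_subsingleton (N : Type u) [AddCommGroup N] [Module R N] [Subsingleton N] :
    clSub (Pfin R) (ModuleCat.of R N) = 0 := by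
  haveI : Module.Finite R N := inferInstance
  have h := clSub_exact (R := R) (N₁ := N) (N₂ := N) (N₃ := N) 0 0
    (fun a b _ => Subsingleton.elim a b) (fun b => ⟨b, Subsingleton.elim _ _⟩)
    (fun y => ⟨fun _ => ⟨y, Subsingleton.elim _ _⟩, fun _ => Subsingleton.elim _ _⟩)
  have : clSub (Pfin R) (ModuleCat.of R N) + clSub (Pfin R) (ModuleCat.of R N) =
      clSub (Pfin R) (ModuleCat.of R N) + 0 := by rw [add_zero]; exact h.symm
  exact add_left_cancel this

theorem clSub_equiv {N N' : Type u} [AddCommGroup N] [Module R N] [AddCommGroup N'] [Module R N']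
    [Module.Finite R N] [Module.Finite R N'] (e : N ≃ₗ[R] N') :
    clSub (Pfin R) (ModuleCat.of R N) = clSub (Pfin R) (ModuleCat.of R N') := by
  have h := clSub_exact (R := R) (N₁ := N) (N₂ := N') (N₃ := PUnit.{u+1}) e.toLinearMap 0
    e.injective (fun b => ⟨0, Subsingleton.elim _ _⟩)
    (fun y => ⟨fun _ => e.surjective y, fun _ => Subsingleton.elim _ _⟩)
  rw [h, clSub_subsingleton PUnit.{u+1}, add_zero]

/-- Every element of `K₀` is generated by classes of finite modules. -/
theorem K0_induction (H : AddSubgroup (K0sub (Pfin R)))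
    (h : ∀ (M : ModuleCat.{u} R), Module.Finite R M → clSub (Pfin R) M ∈ H) :
    ∀ z : K0sub (Pfin R), z ∈ H := by
  intro z
  obtain ⟨a, rfl⟩ := QuotientAddGroup.mk_surjective z
  induction a using FreeAbelianGroup.induction_on with
  | zero => exact H.zero_mem
  | of x =>
    have := h x.1 x.2
    rwa [clSub_of _ x.2] at this
  | neg x hx =>
    have : ((QuotientAddGroup.mk (-FreeAbelianGroup.of x) : K0sub (Pfin R))) =
      -QuotientAddGroup.mk (FreeAbelianGroup.of x) := rfl
    rw [this]
    exact H.neg_mem hx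
  | add x y hx hy =>
    have : ((QuotientAddGroup.mk (x + y) : K0sub (Pfin R))) =
      QuotientAddGroup.mk x + QuotientAddGroup.mk y := rfl
    rw [this]
    exact H.add_mem hx hy

/-- An additive function on finite modules induces a homomorphism out of `K₀`. -/
def K0lift {G : Type*} [AddCommGroup G] (r : ModuleCat.{u} R → G)
    (hr : ∀ S : ShortComplex (ModuleCat.{u} R), S.ShortExact → Module.Finite R S.X₁ →
      Module.Finite R S.X₂ → Module.Finite R S.X₃ → r S.X₂ = r S.X₁ + r S.X₃) :
    K0sub (Pfin R) →+ G :=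
  QuotientAddGroup.lift (relSub (Pfin R))
    (FreeAbelianGroup.lift (fun X : Subtype (Pfin R) => r X.1)) (by
      rw [relSub, AddSubgroup.closure_le]
      rintro x ⟨S, h₁, h₂, h₃, hS, rfl⟩
      simp only [SetLike.mem_coe, AddMonoidHom.mem_ker, map_sub, FreeAbelianGroup.lift_apply_of]
      rw [hr S hS h₁ h₂ h₃]
      abel)

theorem K0lift_clSub {G : Type*} [AddCommGroup G] (r : ModuleCat.{u} R → G)
    (hr : ∀ S : ShortComplex (ModuleCat.{u} R), S.ShortExact → Module.Finite R S.X₁ →
      Module.Finite R S.X₂ → Module.Finite R S.X₃ → r S.X₂ = r S.X₁ + r S.X₃)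
    (M : ModuleCat.{u} R) (h : Module.Finite R M) :
    K0lift r hr (clSub (Pfin R) M) = r M := by
  rw [clSub_of _ h]
  simp [K0lift]

end Groth.Agent.Lib.Helper6.K0Node
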