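import Groth.Agent.Lib.Helper6.K0Node.K0

set_option linter.unusedSectionVars false
set_option linter.unusedVariables false
set_option linter.unusedSimpArgs false
set_option autoImplicit false
set_option linter.style.haveILetI false
set_option maxHeartbeats 400000

noncomputable section

namespace Groth.Agent.Lib.Helper6.K0Node

open CategoryTheory KZero Polynomial

universe u

variable (k : Type u) [Field k]

/-- the two basis classes -/
def cx (i : Fin 2) : K0sub (Pfin (NA k)) :=
  clSub (Pfin (NA k)) (ModuleCat.of (NA k) (NA k ⧸ Ideal.span {(xb i : NA k)}))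

/-- the comparison map as a homomorphism -/
def combo : ℤ × ℤ →+ K0sub (Pfin (NA k)) :=
  AddMonoidHom.coprod (zmultiplesHom _ (cx k 0)) (zmultiplesHom _ (cx k 1))

theorem combo_apply (p : ℤ × ℤ) : combo k p = p.1 • cx k 0 + p.2 • cx k 1 := by
  simp [combo]

theorem cx_mem_range (i : Fin 2) : cx k i ∈ (combo k).range := by
  fin_cases i
  · exact ⟨(1, 0), by simp [combo_apply]⟩
  · exact ⟨(0, 1), by simp [combo_apply]⟩

theorem cl_quot_prime_mem (p : Ideal (NA k)) [hp : p.IsPrime] :
    clSub (Pfin (NA k)) (ModuleCat.of (NA k) (NA k ⧸ p)) ∈ (combo k).range := by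
  obtain ⟨i, hi⟩ := prime_contains_xb p
  rcases prime_structure i p hi with h | ⟨f, hf, h⟩
  · subst h
    exact cx_mem_range k i
  · subst h
    have hle : Ideal.span {(xb i : NA k)} ≤ Ideal.span {f} ⊔ Ideal.span {(xb i : NA k)} :=
      le_sup_right
    have hex := clSub_exact (R := NA k) (mulQ i f) (projQ i _ hle) (mulQ_injective i f hf)
      (projQ_surjective i _ hle) (exact_mulQ_projQ i f hle)
    have h0 : clSub (Pfin (NA k))
        (ModuleCat.of (NA k) (NA k ⧸ (Ideal.span {f} ⊔ Ideal.span {(xb i : NA k)}))) = 0 := by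
      have := hex
      exact add_left_cancel (a := clSub (Pfin (NA k))
        (ModuleCat.of (NA k) (NA k ⧸ Ideal.span {(xb i : NA k)}))) (by rw [add_zero]; exact this.symm)
    rw [h0]
    exact (combo k).range.zero_mem

theorem cl_mem_range (M : Type u) [AddCommGroup M] [Module (NA k) M]
    (hM : Module.Finite (NA k) M) :
    clSub (Pfin (NA k)) (ModuleCat.of (NA k) M) ∈ (combo k).range := by
  induction hM using IsNoetherianRing.induction_on_isQuotientEquivQuotientPrime (NA k) with
  | subsingleton N =>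
    rw [clSub_subsingleton]
    exact (combo k).range.zero_mem
  | quotient N p e =>
    haveI := p.2
    rw [clSub_equiv e]
    exact cl_quot_prime_mem k p.1
  | exact N₁ N₂ N₃ f g hf hg hfg h₁ h₃ =>
    rw [clSub_exact f g hf hg hfg]
    exact (combo k).range.add_mem h₁ h₃

theorem combo_surjective : Function.Surjective (combo k) := by
  intro z
  have := K0_induction (R := NA k) (combo k).range
    (fun M hM => cl_mem_range k M hM) z
  exact this

/-- The rank vector. -/
def rvec (M : ModuleCat.{u} (NA k)) : ℤ × ℤ := ((rk k 0 M : ℤ), (rk k 1 M : ℤ))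

theorem rvec_additive (S : ShortComplex (ModuleCat.{u} (NA k))) (hS : S.ShortExact)
    (h₁ : Module.Finite (NA k) S.X₁) (h₂ : Module.Finite (NA k) S.X₂)
    (h₃ : Module.Finite (NA k) S.X₃) : rvec k S.X₂ = rvec k S.X₁ + rvec k S.X₃ := by
  have hinj : Function.Injective S.f.hom := hS.moduleCat_injective_f
  have hsurj : Function.Surjective S.g.hom := hS.moduleCat_surjective_g
  have hex : Function.Exact S.f.hom S.g.hom :=
    (ShortComplex.ShortExact.moduleCat_exact_iff_function_exact S).1 hS.exact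
  unfold rvec
  rw [rk_exact 0 S.f.hom S.g.hom hinj hsurj hex, rk_exact 1 S.f.hom S.g.hom hinj hsurj hex]
  simp

/-- The rank homomorphism. -/
def ρ : K0sub (Pfin (NA k)) →+ ℤ × ℤ := K0lift (rvec k) (rvec_additive k)

theorem ρ_cx0 : ρ k (cx k 0) = (1, 0) := by
  unfold ρ cx
  rw [K0lift_clSub _ _ _ (by infer_instance)]
  unfold rvec
  have h1 := rk_quot_self (k := k) 0
  have h2 := rk_quot_ne (k := k) 1 0 (by decide)
  simp only [ModuleCat.of_coe] at *
  rw [h1, h2]
  rfl

theorem ρ_cx1 : ρ k (cx k 1) = (0, 1) := by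
  unfold ρ cx
  rw [K0lift_clSub _ _ _ (by infer_instance)]
  unfold rvec
  have h1 := rk_quot_self (k := k) 1
  have h2 := rk_quot_ne (k := k) 0 1 (by decide)
  simp only [ModuleCat.of_coe] at *
  rw [h1, h2]
  rfl

theorem ρ_combo (p : ℤ × ℤ) : ρ k (combo k p) = p := by
  rw [combo_apply, map_add, map_zsmul, map_zsmul, ρ_cx0, ρ_cx1]
  ext <;> simp

theorem combo_bijective : Function.Bijective (combo k) :=
  ⟨fun p q h => by rw [← ρ_combo k p, ← ρ_combo k q, h], combo_surjective k⟩

theorem main_bijective :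
    Function.Bijective (fun p : ℤ × ℤ =>
      p.1 • KZero.clSub (fun M : ModuleCat.{u} (MvPolynomial (Fin 2) k ⧸ Ideal.span {(MvPolynomial.X 0 * MvPolynomial.X 1 : MvPolynomial (Fin 2) k)}) => Module.Finite (MvPolynomial (Fin 2) k ⧸ Ideal.span {(MvPolynomial.X 0 * MvPolynomial.X 1 : MvPolynomial (Fin 2) k)}) M)
          (ModuleCat.of (MvPolynomial (Fin 2) k ⧸ Ideal.span {(MvPolynomial.X 0 * MvPolynomial.X 1 : MvPolynomial (Fin 2) k)}) ((MvPolynomial (Fin 2) k ⧸ Ideal.span {(MvPolynomial.X 0 * MvPolynomial.X 1 : MvPolynomial (Fin 2) k)}) ⧸ Ideal.span {Ideal.Quotient.mk (Ideal.span {(MvPolynomial.X 0 * MvPolynomial.X 1 : MvPolynomial (Fin 2) k)}) (MvPolynomial.X 0)})) +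
        p.2 • KZero.clSub (fun M : ModuleCat.{u} (MvPolynomial (Fin 2) k ⧸ Ideal.span {(MvPolynomial.X 0 * MvPolynomial.X 1 : MvPolynomial (Fin 2) k)}) => Module.Finite (MvPolynomial (Fin 2) k ⧸ Ideal.span {(MvPolynomial.X 0 * MvPolynomial.X 1 : MvPolynomial (Fin 2) k)}) M)
          (ModuleCat.of (MvPolynomial (Fin 2) k ⧸ Ideal.span {(MvPolynomial.X 0 * MvPolynomial.X 1 : MvPolynomial (Fin 2) k)}) ((MvPolynomial (Fin 2) k ⧸ Ideal.span {(MvPolynomial.X 0 * MvPolynomial.X 1 : MvPolynomial (Fin 2) k)}) ⧸ Ideal.span {Ideal.Quotient.mk (Ideal.span {(MvPolynomial.X 0 * MvPolynomial.X 1 : MvPolynomial (Fin 2) k)}) (MvPolynomial.X 1)}))) := by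
  have h := combo_bijective k
  have heq : (fun p : ℤ × ℤ => p.1 • cx k 0 + p.2 • cx k 1) = combo k := by
    funext p
    exact (combo_apply k p).symm
  rw [← heq] at h
  exact h

end Groth.Agent.Lib.Helper6.K0Node
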