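import Mathlib

set_option linter.unusedSectionVars false
set_option linter.unusedVariables false
set_option linter.unusedSimpArgs false
set_option autoImplicit false
set_option linter.style.haveILetI false
set_option maxHeartbeats 400000

noncomputable section

namespace Groth.Agent.Lib.Helper6.K0Node

open Polynomial

universe u

variable (k : Type u) [Field k]

/-- The polynomial ring in two variables. -/
abbrev MP := MvPolynomial (Fin 2) k

/-- The ideal `(xy)`. -/
abbrev Ixy : Ideal (MP k) := Ideal.span {(MvPolynomial.X 0 * MvPolynomial.X 1 : MP k)}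

/-- The node ring. -/
abbrev NA := MP k ⧸ Ixy k

variable {k}

/-- images of the variables -/
def xb (i : Fin 2) : NA k := Ideal.Quotient.mk (Ixy k) (MvPolynomial.X i)

theorem xb_mul_xb (i j : Fin 2) (hij : i ≠ j) : (xb i * xb j : NA k) = 0 := by
  have h01 : (xb 0 * xb 1 : NA k) = 0 := by
    unfold xb
    rw [← map_mul, Ideal.Quotient.eq_zero_iff_mem]
    exact Ideal.subset_span rfl
  fin_cases i <;> fin_cases j
  · exact absurd rfl hij
  · exact h01
  · rw [mul_comm]; exact h01
  · exact absurd rfl hij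

/-- The map `k[x,y] → k[T]` killing `X i` and sending the other variable to `T`. -/
def ψ (i : Fin 2) : MP k →+* k[X] :=
  (MvPolynomial.aeval (fun n : Fin 2 => if n = i then (0 : k[X]) else Polynomial.X)).toRingHom

theorem ψ_X (i n : Fin 2) : ψ i (MvPolynomial.X n : MP k) = if n = i then 0 else Polynomial.X := by
  simp [ψ]

theorem ψ_C (i : Fin 2) (c : k) : ψ i (MvPolynomial.C c : MP k) = Polynomial.C c := by
  simp [ψ]

theorem ψ_xy (i : Fin 2) : ψ i (MvPolynomial.X 0 * MvPolynomial.X 1 : MP k) = 0 := by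
  rw [map_mul, ψ_X, ψ_X]
  fin_cases i <;> simp

/-- The induced map on the node ring. -/
def φ (i : Fin 2) : NA k →+* k[X] :=
  Ideal.Quotient.lift (Ixy k) (ψ i) (by
    intro a ha
    rw [Ideal.mem_span_singleton] at ha
    obtain ⟨c, rfl⟩ := ha
    rw [map_mul, ψ_xy, zero_mul])

theorem φ_mk (i : Fin 2) (p : MP k) : φ i (Ideal.Quotient.mk (Ixy k) p) = ψ i p := by
  simp [φ]

theorem φ_xb (i n : Fin 2) : φ i (xb n : NA k) = if n = i then 0 else Polynomial.X := by
  unfold xb
  rw [φ_mk, ψ_X]

theorem φ_xb_self (i : Fin 2) : φ i (xb i : NA k) = 0 := by simp [φ_xb]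

theorem φ_xb_ne (i j : Fin 2) (hij : i ≠ j) : φ i (xb j : NA k) = Polynomial.X := by
  rw [φ_xb, if_neg (Ne.symm hij)]

/-- The section `k[T] → A`, `T ↦ x_j`. -/
def σ (j : Fin 2) : k[X] →+* NA k :=
  Polynomial.eval₂RingHom (algebraMap k (NA k)) (xb j)

theorem σ_X (j : Fin 2) : σ j (Polynomial.X : k[X]) = (xb j : NA k) := by
  simp [σ]

theorem σ_C (j : Fin 2) (c : k) : σ j (Polynomial.C c : k[X]) = algebraMap k (NA k) c := by
  simp [σ]

theorem φ_algebraMap (i : Fin 2) (c : k) : φ i (algebraMap k (NA k) c) = Polynomial.C c := by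
  have : algebraMap k (NA k) c = Ideal.Quotient.mk (Ixy k) (MvPolynomial.C c) := rfl
  rw [this, φ_mk, ψ_C]

theorem φ_σ (i j : Fin 2) (hij : i ≠ j) (f : k[X]) : φ i (σ j f) = f := by
  have : (φ i).comp (σ j) = RingHom.id k[X] := by
    apply Polynomial.ringHom_ext
    · intro c
      simp [σ_C, φ_algebraMap]
    · simp [σ_X, φ_xb_ne i j hij]
  exact RingHom.congr_fun this f

theorem φ_surjective (i : Fin 2) : Function.Surjective (φ i : NA k → k[X]) := by
  obtain ⟨j, hij⟩ : ∃ j : Fin 2, i ≠ j := by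
    fin_cases i
    · exact ⟨1, by decide⟩
    · exact ⟨0, by decide⟩
  intro f
  exact ⟨σ j f, φ_σ i j hij f⟩

theorem sub_σφ_mem (i j : Fin 2) (hij : i ≠ j) (a : NA k) :
    a - σ j (φ i a) ∈ Ideal.span {(xb i : NA k)} := by
  obtain ⟨p, rfl⟩ := Ideal.Quotient.mk_surjective a
  induction p using MvPolynomial.induction_on with
  | C c =>
    have : Ideal.Quotient.mk (Ixy k) (MvPolynomial.C c) = algebraMap k (NA k) c := rfl
    rw [this, φ_algebraMap, σ_C, sub_self]
    exact zero_mem _
  | add p q hp hq =>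
    have : (Ideal.Quotient.mk (Ixy k) (p + q)) - σ j (φ i (Ideal.Quotient.mk (Ixy k) (p + q))) =
        ((Ideal.Quotient.mk (Ixy k) p) - σ j (φ i (Ideal.Quotient.mk (Ixy k) p))) +
        ((Ideal.Quotient.mk (Ixy k) q) - σ j (φ i (Ideal.Quotient.mk (Ixy k) q))) := by
      simp only [map_add]; ring
    rw [this]
    exact add_mem hp hq
  | mul_X p n hp =>
    set a := Ideal.Quotient.mk (Ixy k) p with ha
    have hmul : Ideal.Quotient.mk (Ixy k) (p * MvPolynomial.X n) = a * xb n := by
      rw [map_mul]; rfl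
    rw [hmul, map_mul, map_mul]
    have hx : (xb n : NA k) - σ j (φ i (xb n)) ∈ Ideal.span {(xb i : NA k)} := by
      by_cases hn : n = i
      · subst hn
        rw [φ_xb_self, map_zero, sub_zero]
        exact Ideal.subset_span rfl
      · have hnj : n = j := by
          fin_cases n <;> fin_cases i <;> fin_cases j <;> simp_all
        subst hnj
        rw [φ_xb_ne i n hij, σ_X, sub_self]
        exact zero_mem _
    have : a * xb n - σ j (φ i a) * σ j (φ i (xb n)) =
        (a - σ j (φ i a)) * xb n + σ j (φ i a) * (xb n - σ j (φ i (xb n))) := by ring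
    rw [this]
    exact add_mem (Ideal.mul_mem_right _ _ hp) (Ideal.mul_mem_left _ _ hx)

theorem ker_φ (i : Fin 2) : RingHom.ker (φ i : NA k →+* k[X]) = Ideal.span {(xb i : NA k)} := by
  obtain ⟨j, hij⟩ : ∃ j : Fin 2, i ≠ j := by
    fin_cases i
    · exact ⟨1, by decide⟩
    · exact ⟨0, by decide⟩
  apply le_antisymm
  · intro a ha
    rw [RingHom.mem_ker] at ha
    have := sub_σφ_mem i j hij a
    rwa [ha, map_zero, sub_zero] at this
  · rw [Ideal.span_le]
    intro a ha
    rw [Set.mem_singleton_iff] at ha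
    subst ha
    exact φ_xb_self i

end Groth.Agent.Lib.Helper6.K0Node
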